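import Groth.Agent.S11133
import Groth.Agent.S9716
import Groth.Agent.SymSqLib.Euler
import Groth.Agent.AVIndexLib.HodgeDim
import Groth.Agent.NormDescTorsLib.Torsor
import Groth.Agent.CubeLib.UnivO
import Groth.Agent.CurvLib.StalkSum

/-!
# Direct images of structure sheaves of finite schemes over a field and their base changes
-/

set_option autoImplicit false
universe u

open CategoryTheory CategoryTheory.Limits AlgebraicGeometry

noncomputable section

namespace TorsPushSqLib

/-- Base change of the direct image of the structure sheaf. -/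
theorem nonempty_pullback_pushO {X Y X' Y' : Scheme.{u}} {f : X ⟶ Y} {g : Y' ⟶ Y} {g' : X' ⟶ X} {f' : X' ⟶ Y'}
    (h : IsPullback g' f' f g) [QuasiCompact f] [QuasiSeparated f] [Flat g] :
    Nonempty ((Scheme.Modules.pullback g).obj ((Scheme.Modules.pushforward f).obj (Coh.structureModule X)) ≅
      (Scheme.Modules.pushforward f').obj (Coh.structureModule X')) := by
  haveI : Coh.IsQCoh (Coh.structureModule X) := QCohLib.isQCoh_unit
  haveI := Groth.Agent.S11133.result f g g' f' h (Coh.structureModule X)
  exact ⟨@asIso _ _ _ _ _ ‹IsIso (_ ≫ _ ≫ _)› ≪≫ (Scheme.Modules.pushforward f').mapIso (KFlatLib.pullUnitIso g')⟩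

/-- The direct image of the structure sheaf of a finite scheme over a field is free of rank the dimension of
its algebra of functions. -/
theorem nonempty_push_free_field (k : Type u) [Field k] (G : Scheme.{u}) [G.Over (Spec (CommRingCat.of k))]
    [IsFinite (G ↘ Spec (CommRingCat.of k))] (n : ℕ)
    (hn : Module.finrank k (Coh.HH G (Coh.structureModule G) 0) = n) :
    Nonempty ((Scheme.Modules.pushforward (G ↘ Spec (CommRingCat.of k))).obj (Coh.structureModule G) ≅
      FlatMod.freeMod (Spec (CommRingCat.of k)) n) := by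
  let T := Spec (CommRingCat.of k)
  letI : T.Over T := ⟨𝟙 T⟩
  haveI : IsProper (T ↘ T) := inferInstanceAs (IsProper (𝟙 T))
  let p := G ↘ T
  haveI : Coh.IsQCoh (Coh.structureModule G) := QCohLib.isQCoh_unit
  haveI : Coh.IsQCoh ((Scheme.Modules.pushforward p).obj (Coh.structureModule G)) :=
    QCohLib.isQCoh_pushforward _ _
  haveI : Flat p := inferInstance
  have hlf : FlatMod.IsFinLocFree ((Scheme.Modules.pushforward p).obj (Coh.structureModule G)) :=
    ((Groth.Agent.S9716.result p).2 ⟨inferInstance, inferInstance, inferInstance⟩).2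
  obtain ⟨x⟩ : Nonempty T := inferInstance
  obtain ⟨U, r, hx, ⟨e⟩⟩ := hlf x
  obtain rfl : U = ⊤ := top_le_iff.1 fun z _ => by rwa [Subsingleton.elim z x]
  let e' : (Scheme.Modules.pushforward p).obj (Coh.structureModule G) ≅ FlatMod.freeMod T r := by
    refine ((Scheme.Modules.pullbackId T).app _).symm ≪≫ ?_
    refine (Scheme.Modules.pullbackCongr (show T.topIso.inv ≫ (⊤ : T.Opens).ι = 𝟙 T by
      rw [← T.topIso_hom]; exact Iso.inv_hom_id _)).symm.app _ ≪≫ ?_
    exact ((Scheme.Modules.pullbackComp T.topIso.inv (⊤ : T.Opens).ι).app _).symm ≪≫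
      (Scheme.Modules.pullback T.topIso.inv).mapIso
        (((Scheme.Modules.restrictFunctorIsoPullback (⊤ : T.Opens).ι).app _).symm ≪≫ e) ≪≫
      KFlatLib.pullFreeIso _ r
  have h1 : Module.finrank k (Coh.HH T (Coh.structureModule T) 0) = 1 := by
    letI := CurvLib.secModule (k := k) (Coh.structureModule T)
    rw [(CurvLib.hhZeroEquiv (k := k) (Coh.structureModule T)).finrank_eq]
    have hb : Function.Bijective (Coh.toGlobal (A := k) (T ↘ T)) := by
      show Function.Bijective ⇑(((Scheme.ΓSpecIso (CommRingCat.of k)).inv ≫ (T ↘ T).appTop).hom)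
      haveI : IsIso ((T ↘ T).appTop) := by
        rw [show (T ↘ T).appTop = 𝟙 _ from Scheme.Hom.id_app ⊤]
        infer_instance
      exact ConcreteCategory.bijective_of_isIso ((Scheme.ΓSpecIso (CommRingCat.of k)).inv ≫ (T ↘ T).appTop)
    rw [← Module.finrank_self k]
    exact (LinearEquiv.ofBijective
      ({ toFun := Coh.toGlobal (A := k) (T ↘ T)
         map_add' := map_add _
         map_smul' := fun c x => map_mul (Coh.toGlobal (A := k) (T ↘ T)) c x } : k →ₗ[k] Γ(Coh.structureModule T, ⊤))
      hb).finrank_eq.symm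
  have h2 := (PushLinLib.euler_push k p (Category.comp_id _) (Coh.structureModule G)).1 0
  rw [hn, (CurvLib.hIso (k := k) (X := T) e' 0).finrank_eq, (AVIndexLib.finrank_HH_free (k := k) (X := T) 0 r).2,
    h1, mul_one] at h2
  subst h2
  exact ⟨e'⟩

end TorsPushSqLib
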